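/-
The strongly closed subgroups of a Sylow 2-subgroup of `PSL(n, q)`, `q` odd, `n ≥ 4`, are trivial.
-/
import Cfsg.Agent.Ln.C2
set_option autoImplicit false
set_option linter.unusedSectionVars false

namespace CF.Ln
open Subgroup Cfsg CF.BG CF.Sig CF.GW CF.Ab2 CF.L5 CF.Geom CF.PsA Equiv SemidirectProduct Module
open scoped commutatorElement MatrixGroups

variable {F : Type*} [Field F] {B C : Type*} [CommGroup B] [CommGroup C]

/-- the product of the determinants of the torus parts -/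
def cθ (k : Bk B C) (m l : ℕ) : Wr k.D (Fin m) (Fin l → C) →* C := MonoidHom.mk' (fun x => ∏ i, k.δ (wrL x i).left) fun x y => by
  simp only [wrL_mul, mul_left, map_mul, k.φ_apply, k.δsg, Finset.prod_mul_distrib]
  exact congrArg _ (Equiv.prod_comp (wrP x)⁻¹ fun i => k.δ (wrL y i).left)

theorem cθ_single (k : Bk B C) {m : ℕ} (l : ℕ) (i : Fin m) (d : k.D) : cθ k m l (wrB (Pi.mulSingle i d)) = k.δ d.left := by
  change ∏ t, k.δ ((Pi.mulSingle i d : Fin m → k.D) t).left = _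
  rw [Finset.prod_eq_single i (fun t _ ht => by simp [ht]) (by simp)]
  simp

theorem c_ker {k : Bk B C} (z : Rz F k) {m l : ℕ} (hl : l ≤ 1) (hm : 2 ≤ m) (P : Sylow 2 (Perm (Fin m)))
    (𝒜 : Wr k.D (Fin m) (Fin l → C) → Prop) (a1 : ∀ x, LinearEquiv.det (z.W m l x) = 1 → x * x = 1 → 𝒜 x)
    (a2 : ∀ Q : Subgroup (Perm (Fin m)), IsPGroup 2 Q → ∀ x y, wrP x ∈ Q → wrP y ∈ Q → 𝒜 x → 𝒜 y → 𝒜 (x * y))
    (x : Wr k.D (Fin m) (Fin l → C)) (hx : wrP x ∈ P) (h1 : LinearEquiv.det (z.W m l x) = 1) (h2 : cθ k m l x = 1) : 𝒜 x := by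
  have := Fin.nontrivial_iff_two_le.2 hm
  have sq : ∀ d : k.D, k.δ d.left = 1 → d.right = -1 → d * d = 1 := fun d a b =>
    SemidirectProduct.ext (by simp [b, k.φ_apply, k.σX a]) (by simp [b])
  refine c_wr (LinearEquiv.det.comp (z.W m l)) (cθ k m l) P 𝒜 (fun π => det_wrRep_wrT π) (fun π => ?_) (fun a => ?_)
    (y := inr (-1)) (sq _ (by simp) rfl) (fun i d h => ?_) (fun i d a h h' => ?_) a1 a2 x hx h1 h2
  · exact (Finset.prod_eq_one fun _ _ => map_one k.δ : ∏ _i : Fin m, k.δ 1 = 1)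
  · exact (Finset.prod_eq_one fun _ _ => map_one k.δ : ∏ _i : Fin m, k.δ 1 = 1)
  · rw [cθ_single] at h
    rcases Int.units_eq_one_or d.right with c | c
    · exact .inr (sq _ (by simp [k.φ_apply, k.δσ, h]) (by simp [c]))
    · exact .inl (sq _ h c)
  · rw [cθ_single] at h
    have e := (z.det_W _).symm.trans h'
    rw [Finset.prod_eq_single i (fun t _ ht => by simp [wrL, wrB, ht]) (by simp)] at e
    have e : Matrix.GeneralLinearGroup.det (z.ρ d) * z.ι (∏ t, a t) = 1 := by simpa [wrL, wrB] using e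
    rw [Rz.ρ_apply, map_mul, z.det_r, h, map_one, one_mul] at e
    have e2 : z.ι ((∏ t, a t) * ∏ t, a t) = 1 := by
      rw [map_mul, eq_inv_of_mul_eq_one_right e, ← mul_inv_rev, ← map_mul, ← map_mul, Int.units_mul_self, map_one, map_one, inv_one]
    rw [map_eq_one_iff _ z.ι_inj] at e2
    funext t
    obtain rfl : l = 1 := by have := t.2; omega
    rwa [Fin.prod_univ_one, Subsingleton.elim 0 t] at e2

theorem sc [Fintype F] (o : Odd (Fintype.card F)) {n : ℕ} (h4 : 4 ≤ n) {T U : Subgroup PSL(n, F)} (hT : Syl 2 T ⊤)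
    (hU : IsStronglyClosed U T) : U = ⊥ ∨ U = T := by
  classical
  refine or_iff_not_imp_left.2 fun ne => ?_
  have h1 := Fintype.one_lt_card (α := F)
  obtain ⟨m, l, hl, hn⟩ : ∃ m l, l ≤ 1 ∧ n = 2 * m + l := ⟨n / 2, n % 2, by omega, by omega⟩
  obtain ⟨PB⟩ : Nonempty (Sylow 2 (Ga F)ˣ) := inferInstance
  obtain ⟨PC⟩ : Nonempty (Sylow 2 Fˣ) := inferInstance
  obtain ⟨k, ⟨z⟩⟩ := exists_bk o PB PC
  obtain ⟨P⟩ : Nonempty (Sylow 2 (Perm (Fin m))) := inferInstance
  obtain ⟨Q⟩ : Nonempty (Sylow 2 (Matrix.SpecialLinearGroup (Fin n) F)) := inferInstance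
  have hd : finrank F ((Fin m → Fin 2 → F) × (Fin l → F)) = n := by
    simp [Module.finrank_pi_fintype, mul_comm, hn]
  let e : (Fin n → F) ≃ₗ[F] ((Fin m → Fin 2 → F) × (Fin l → F)) :=
    .ofFinrankEq _ _ ((finrank_fin_fun F).trans hd.symm)
  have cD : Nat.card k.D = Nat.card PB * 2 := by rw [SemidirectProduct.card]; simp
  have fD : Finite k.D := Nat.finite_of_card_ne_zero (by simp [cD, Nat.card_pos.ne'])
  obtain ⟨b, hb⟩ := IsPGroup.iff_card.1 PB.isPGroup'
  have pD : IsPGroup 2 k.D := IsPGroup.of_card (n := b + 1) (by rw [cD, hb, pow_succ])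
  have pA : IsPGroup 2 (Fin l → PC) := fun a => ⟨_, funext fun t => k.exp (a t)⟩
  have : (slHom e).range.Normal := by rw [range_slHom]; infer_instance
  obtain ⟨f⟩ := exists_equiv_sylow _ (slHom_injective e) _ (z.W_inj m l) (isPGroup_comap_wrP pD pA P.isPGroup') (by
    rw [Nat.prime_two.dvd_mul, index_comap_wrP, not_or]
    refine ⟨P.not_dvd_index, fun h2 => ?_⟩
    have hc := congrArg (padicValNat 2) (z.W m l).range.card_mul_index
    have c1 := z.cB
    have c2 := z.cC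
    rw [← Nat.card_congr (MonoidHom.ofInjective (z.W_inj m l)).toEquiv, card_Wr,
      padicValNat.mul (by simp [Nat.factorial_ne_zero, Nat.card_pos.ne']) index_ne_zero_of_finite,
      padicValNat.mul (by simp [Nat.factorial_ne_zero, Nat.card_pos.ne']) Nat.card_pos.ne',
      padicValNat.mul (by simp [Nat.card_pos.ne']) (Nat.factorial_ne_zero _), padicValNat.pow, cD,
      padicValNat.mul Nat.card_pos.ne' two_ne_zero, padicValNat_self, c1, Nat.card_fun, padicValNat.pow, c2,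
      card_linearEquiv hd, hn, Nat.card_eq_fintype_card (α := F)] at hc
    have := one_le_padicValNat_of_dvd index_ne_zero_of_finite h2
    simp only [Nat.card_eq_fintype_card, Fintype.card_fin] at hc
    interval_cases l
    · rw [add_zero, v2_prod_gl h1 o] at hc; omega
    · rw [v2_prod_gl_succ h1 o, v2_prod_gl h1 o, v2_pow_odd h1 o (odd_two_mul_add_one m)] at hc
      omega) Q
  rw [range_slHom, MonoidHom.comap_ker] at f
  generalize hN : (LinearEquiv.det.comp (z.W m l)).ker = N at f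
  have mN : ∀ {x}, x ∈ N ↔ LinearEquiv.det (z.W m l x) = 1 := hN ▸ Iff.rfl
  let ψ : N →* Matrix.SpecialLinearGroup (Fin n) F :=
    (MonoidHom.ofInjective (slHom_injective e)).symm.toMonoidHom.comp
      (((z.W m l).comp N.subtype).codRestrict _ fun x => by rw [range_slHom]; exact mN.1 x.2)
  have hψ : ∀ x, slHom e (ψ x) = z.W m l x := fun x => MonoidHom.apply_ofInjective_symm (slHom_injective e) _
  have iψ : Function.Injective ψ := fun x y h => Subtype.ext (z.W_inj m l (by rw [← hψ, h, hψ]))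
  let φ := (cpr (Fin n) F).comp ψ
  let X : Subgroup (Perm (Fin m)) → Subgroup N := fun Q => (Q.comap wrP).subgroupOf N
  have hR : Syl 2 ((X P).map φ) ⊤ := by
    have := syl_sylow_top ((Sylow.ofCard ((X P).map ψ) (by
      rw [← Q.card_eq_multiplicity, Nat.card_congr f.toEquiv, card_map_of_injective iψ]
      exact (congrArg (fun Y : Subgroup N => Nat.card Y) (inf_subgroupOf_right _ N).symm).trans
        (Nat.card_congr (subgroupOfEquivOfLe inf_le_right).toEquiv))).mapSurjective (QuotientGroup.mk'_surjective (center _)))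
    rwa [Sylow.coe_mapSurjective, Sylow.coe_ofCard, map_map] at this
  have key : ∀ x ∈ X P, cθ k m l x = 1 → cU U (φ x) := fun x hx h =>
    (c_ker z hl (by omega) P (fun x => ∃ h : x ∈ N, cU U (φ ⟨x, h⟩))
      (fun x a b => ⟨mN.2 a, c_all (two_ne_zero_of_odd_card o) (by simp; omega) hT hU ne (by
        rw [← map_mul]; exact (congrArg ψ (Subtype.ext b)).trans (map_one ψ))⟩)
      (fun Q q x y a b ⟨c, c'⟩ ⟨d, d'⟩ => ⟨mul_mem c d, map_mul φ ⟨x, c⟩ ⟨y, d⟩ ▸ cU_mul hT hU (R := (X Q).map φ)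
        (piGrp_of_isPGroup Nat.prime_two (((isPGroup_comap_wrP pD pA q).comap_subtype).map φ))
        (mem_map_of_mem _ a) (mem_map_of_mem _ b) c' d'⟩) x hx (mN.1 x.2) h).2
  obtain ⟨g, -, hg⟩ := hR.syl_conj hT
  obtain ⟨⟨_, r, hr, rfl⟩, gen⟩ := IsCyclic.exists_generator (α := (X P).map ((cθ k m l).comp N.subtype))
  refine c_cyc ?_ hT hU (r := g * φ r * g⁻¹) (hg ▸ conj_mem_cj.2 (mem_map_of_mem _ hr)) fun x hx => ?_
  · have := congrArg (map (cpr (Fin n) F)) (CF.Classical.commutator_SL_eq_top (ι := Fin n) (F := F) (by simp; omega))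
    rwa [_root_.commutator_def, map_commutator, map_top_of_surjective _ (QuotientGroup.mk'_surjective _)] at this
  obtain ⟨_, ⟨y, hy, rfl⟩, rfl⟩ := mem_cj_iff.1 (hg ▸ hx)
  obtain ⟨i, hi⟩ := gen ⟨_, mem_map_of_mem _ hy⟩
  have hi : cθ k m l r ^ i = cθ k m l y := congrArg Subtype.val hi
  refine ⟨i, cU_mem hU ?_ (mul_mem (inv_mem (zpow_mem (hg ▸ conj_mem_cj.2 (mem_map_of_mem _ hr)) i)) hx)⟩
  rw [conj_zpow, conj_inv, conj_mul, ← map_zpow, ← map_inv, ← map_mul]
  exact cU_cj (key _ (mul_mem (inv_mem (zpow_mem hr i)) hy) (by simp [hi])) g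

end CF.Ln
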