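/-
Block subgroups of `PSL(ι, F)`.
-/
import Cfsg.Agent.Ln.Defs
set_option autoImplicit false
set_option linter.unusedSectionVars false

namespace CF.Ln.Hh
open Subgroup Cfsg CF.BG Matrix
open scoped commutatorElement MatrixGroups

variable {ι κ : Type} [Fintype ι] [DecidableEq ι] [Fintype κ] [DecidableEq κ] {F : Type*} [Field F]
  {e : Matrix ι ι F} {g h x : SpecialLinearGroup ι F} {i j k l : ι} {s : Finset ι} {c : F}

/-- the quotient map -/
abbrev π : SpecialLinearGroup ι F →* ProjectiveSpecialLinearGroup ι F := QuotientGroup.mk' _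

theorem mt_inj (a : mt g = mt h) : g = h := Subtype.ext a

theorem mt_det (g : SpecialLinearGroup ι F) : (mt g).det = 1 := g.2

theorem mt_inv (g : SpecialLinearGroup ι F) : mt g * mt g⁻¹ = 1 := by rw [← map_mul, mul_inv_cancel, map_one]

theorem mt_inv' (g : SpecialLinearGroup ι F) : mt g⁻¹ * mt g = 1 := by rw [← map_mul, inv_mul_cancel, map_one]

theorem eqv (a : π g = π h) : ∃ c : F, mt g = c • mt h := by
  obtain ⟨c, -, b⟩ := Matrix.SpecialLinearGroup.mem_center_iff.1 (QuotientGroup.eq.1 a.symm)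
  refine ⟨c, ?_⟩
  rw [← mul_inv_cancel_left h g, map_mul, show mt (h⁻¹ * g) = scalar ι c from b.symm, scalar_apply,
    ← smul_one_eq_diagonal, mul_smul_comm, mul_one]

/-- the matrices that act trivially on the image of `e` and modulo its kernel -/
def HB (e : Matrix ι ι F) : Subgroup (SpecialLinearGroup ι F) where
  carrier := {g | e * mt g = e ∧ mt g * e = e}
  one_mem' := by simp
  mul_mem' a b := ⟨by rw [map_mul, ← mul_assoc, a.1, b.1], by rw [map_mul, mul_assoc, b.2, a.2]⟩
  inv_mem' {g} a := ⟨by rw [← a.1, mul_assoc, mt_inv, mul_one, a.1], by rw [← a.2, ← mul_assoc, mt_inv', one_mul, a.2]⟩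

theorem HB_cj (a : Commute (mt h) e) (b : g ∈ HB e) : h * g * h⁻¹ ∈ HB e := by
  constructor <;> simp only [map_mul]
  · rw [← mul_assoc, ← mul_assoc, ← a.eq, mul_assoc _ e, b.1, a.eq, mul_assoc, mt_inv, mul_one]
  · rw [mul_assoc, show mt h⁻¹ * e = e * mt h⁻¹ by
      rw [← one_mul (e * _), ← mt_inv' h, mul_assoc, ← mul_assoc (mt h), a.eq, mul_assoc, mt_inv, mul_one], ← mul_assoc, mul_assoc _ _ e, b.2, a.eq,
      mul_assoc, mt_inv, mul_one]

theorem HB_cm (a : g ∈ HB e) : Commute (mt g) e := a.2.trans a.1.symm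

theorem cm' (a : Commute (mt g) (1 - e)) : Commute (mt g) e := by simpa using (Commute.one_right _).sub_right a

theorem HB_comm (a : g ∈ HB (1 - e)) (b : h ∈ HB e) : g * h = h * g := mt_inj <| by
  have a1 : mt g = 1 - e + mt g * e := by rw [← a.2, mul_sub, mul_one, sub_add_cancel]
  have a2 : mt g = 1 - e + e * mt g := by rw [← a.1, sub_mul, one_mul, sub_add_cancel]
  rw [map_mul, map_mul]
  conv_lhs => rw [a1]
  conv_rhs => rw [a2]
  rw [add_mul, mul_add, mul_assoc, b.1, ← mul_assoc, b.2, sub_mul, mul_sub, b.1, b.2, (cm' (HB_cm a)).eq, one_mul, mul_one]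

theorem one_of (e0 : e ≠ 0) (a : mt g * e = c • (mt g * e)) : c = 1 := by
  have := congrArg (mt g⁻¹ * ·) a
  simp only [mul_smul_comm, ← mul_assoc, mt_inv', one_mul] at this
  exact smul_left_injective F e0 (this.symm.trans (one_smul ..).symm)

theorem cm_of (e0 : e ≠ 0) (a : Commute (mt g) e) (b : x ∈ HB e) (p : π g * π x = π x * π g) : g * x = x * g := by
  obtain ⟨c, q⟩ := eqv (g := g * x) (h := x * g) (by rw [map_mul, map_mul, p])
  have := congrArg (e * ·) q
  simp only [map_mul, mul_smul_comm, ← mul_assoc, ← a.eq, b.1, mul_assoc _ e] at this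
  exact mt_inj (by rw [q, one_of e0 this, one_smul])

section
variable {P : Matrix ι κ F} {P' : Matrix κ ι F} (p : P' * P = 1)

/-- the embedding of a smaller group -/
def emb : SpecialLinearGroup κ F →* SpecialLinearGroup ι F := MonoidHom.mk'
  (fun A => ⟨1 + P * ((mt A - 1) * P'), by rw [det_one_add_mul_comm, Matrix.mul_assoc, p]; simp [mt_det]⟩)
  fun A B => Subtype.ext (show _ = (1 + P * ((mt A - 1) * P')) * (1 + P * ((mt B - 1) * P')) by
    simp [Matrix.mul_add, Matrix.add_mul, Matrix.mul_sub, Matrix.sub_mul, Matrix.mul_assoc, ← Matrix.mul_assoc P' P, p]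
    abel)

theorem mt_emb (A : SpecialLinearGroup κ F) : mt (emb p A) = 1 + P * ((mt A - 1) * P') := rfl

theorem emb_P (A : SpecialLinearGroup κ F) : mt (emb p A) * P = P * mt A := by
  simp [mt_emb, Matrix.add_mul, Matrix.mul_assoc, p, Matrix.mul_sub]

theorem P_emb (A : SpecialLinearGroup κ F) : P' * mt (emb p A) = mt A * P' := by
  simp [mt_emb, Matrix.mul_add, ← Matrix.mul_assoc, p, Matrix.sub_mul]

theorem range_emb : (emb p).range = HB (1 - P * P') := by
  refine le_antisymm ?_ fun g a => ?_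
  · rintro _ ⟨A, rfl⟩
    constructor
    · rw [sub_mul, Matrix.mul_assoc, P_emb, mt_emb]; simp [Matrix.mul_sub, Matrix.sub_mul]; abel
    · rw [mul_sub, ← Matrix.mul_assoc, emb_P, mt_emb]; simp [Matrix.mul_sub, Matrix.sub_mul, Matrix.mul_assoc]; abel
  have a1 : P * P' * (mt g - 1) = mt g - 1 := by
    rw [mul_sub, mul_one, ← sub_eq_zero, ← neg_eq_zero, ← sub_self (1 - P * P')]
    nth_rw 1 [← a.1]
    rw [sub_mul, one_mul]; abel
  have a2 : (mt g - 1) * (P * P') = mt g - 1 := by
    rw [sub_mul, one_mul, ← sub_eq_zero, ← neg_eq_zero, ← sub_self (1 - P * P')]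
    nth_rw 1 [← a.2]
    rw [mul_sub, mul_one]; abel
  refine ⟨⟨1 + P' * (mt g - 1) * P, ?_⟩, mt_inj ?_⟩
  · rw [det_one_add_mul_comm, ← Matrix.mul_assoc, a1, add_sub_cancel, mt_det]
  · change 1 + P * ((1 + P' * (mt g - 1) * P - 1) * P') = _
    rw [add_sub_cancel_left, Matrix.mul_assoc, Matrix.mul_assoc, a2, ← Matrix.mul_assoc, a1, add_sub_cancel]

theorem emb_inj (e0 : 1 - P * P' ≠ 0) : Function.Injective (π.comp (emb p)) :=
  (injective_iff_map_eq_one _).2 fun A a => by
    obtain ⟨c, q⟩ := eqv (g := emb p A) (h := 1) a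
    have b := ((range_emb p).le ⟨A, rfl⟩).2
    have := emb_P p A
    rw [q, one_of (g := 1) (c := c) e0 (by simpa [q] using b.symm)] at this
    simpa [← Matrix.mul_assoc, p, eq_comm] using mt_inj (g := 1) (by simpa [← Matrix.mul_assoc, p] using congrArg (P' * ·) this)

theorem blk_cm {A : SpecialLinearGroup κ F} (a : g * emb p A = emb p A * g) : Commute (P' * mt g * P) (mt A) := by
  rw [Commute, SemiconjBy, Matrix.mul_assoc, ← emb_P p, ← Matrix.mul_assoc, Matrix.mul_assoc P', ← map_mul, a, map_mul,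
    ← Matrix.mul_assoc, P_emb]
  simp only [Matrix.mul_assoc]

include p in
theorem blk_sc (a : Commute (mt g) (P * P')) (b : P' * mt g * P = scalar κ c) : mt g * (P * P') = c • (P * P') := by
  have : P * P' = P * P' * (P * P') := by rw [Matrix.mul_assoc, ← Matrix.mul_assoc P', p, Matrix.one_mul]
  rw [this, ← mul_assoc, a.eq, Matrix.mul_assoc, Matrix.mul_assoc, ← Matrix.mul_assoc (mt g), ← Matrix.mul_assoc P',
    ← Matrix.mul_assoc P', b, ← this]
  simp [scalar_apply, ← smul_one_eq_diagonal]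

end

/-- the projection to the coordinates in `s` -/
def pr (F : Type*) [Field F] (s : Finset ι) : Matrix ι ι F := diagonal fun k => if k ∈ s then 1 else 0

theorem pr_co (s : Finset ι) : 1 - pr F s = pr F sᶜ := by
  rw [pr, pr, ← diagonal_one, diagonal_sub]
  exact congrArg _ (funext fun k => by by_cases h : k ∈ s <;> simp [h])

theorem pr_ne (a : k ∈ s) : pr F s ≠ 0 := fun e => by simpa [pr, a] using congrFun₂ e k k

theorem pp {f : κ → ι} (a : Function.Injective f) :
    (1 : Matrix ι ι F).submatrix f id * (1 : Matrix ι ι F).submatrix id f = 1 := by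
  rw [← submatrix_mul _ _ _ _ _ Function.bijective_id, one_mul, submatrix_one _ a]

theorem pp' {f : κ → ι} (a : Function.Injective f) (b : ∀ k, k ∈ s ↔ ∃ m, f m = k) :
    (1 : Matrix ι ι F).submatrix id f * (1 : Matrix ι ι F).submatrix f id = pr F s := by
  ext k l
  by_cases c : k ∈ s
  · obtain ⟨m, rfl⟩ := (b k).1 c
    rw [mul_apply, Finset.sum_eq_single m (fun n _ e => by simp [one_apply, a.ne e.symm]) (by simp)]
    simp [pr, one_apply, diagonal_apply, c]
  · have : ∀ m, k ≠ f m := fun m e => c ((b k).2 ⟨m, e.symm⟩)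
    simp [pr, mul_apply, one_apply, diagonal_apply, c, this]

theorem mt_sd (i j : ι) : mt (sd F i j) = diagonal fun k => sg F i k * sg F j k := rfl

theorem sd_pr (a : i ≠ j) : mt (sd F i j) = 1 - (2 : F) • pr F {i, j} := by
  rw [mt_sd, pr, ← diagonal_smul, ← diagonal_one, diagonal_sub]
  refine congrArg _ (funext fun k => ?_)
  by_cases p : k = i <;> by_cases q : k = j <;> simp_all [sg] <;> norm_num

theorem dg_mem {w : ι → F} (a : mt g = diagonal w) (b : ∀ k ∈ s, w k = 1) : g ∈ HB (pr F s) := by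
  constructor <;> rw [a, pr, diagonal_mul_diagonal] <;>
    exact congrArg _ (funext fun k => by by_cases h : k ∈ s <;> simp [h, b k])

theorem sd_mem (a : k ∉ s) (b : l ∉ s) : sd F k l ∈ HB (pr F s) := dg_mem (mt_sd k l) fun m c => by
  simp [sg, show m ≠ k from fun e => a (e ▸ c), show m ≠ l from fun e => b (e ▸ c)]

/-- the element of order four -/
def yy (F : Type*) [Field F] (i j : ι) : SpecialLinearGroup ι F :=
  ⟨(diagonal (if i = j then 1 else sg F i)).submatrix (Equiv.swap i j) id, by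
    by_cases h : i = j <;> simp [det_permute, h, sg]⟩

theorem mt_yy (i j : ι) : mt (yy F i j) = (diagonal (if i = j then 1 else sg F i)).submatrix (Equiv.swap i j) id := rfl

theorem sg_swap (i j k a : ι) : sg F k (Equiv.swap i j a) = sg F (Equiv.swap i j k) a := by
  simp only [sg, Equiv.swap_apply_eq_iff]

theorem yy_sd (i j k l : ι) : yy F i j * sd F k l = sd F (Equiv.swap i j k) (Equiv.swap i j l) * yy F i j := mt_inj <| by
  ext a b
  simp only [map_mul, mt_sd, mt_yy, mul_diagonal, diagonal_mul, submatrix_apply, id, diagonal_apply, ← sg_swap]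
  split_ifs with h <;> simp [h, mul_comm]

theorem yy_sq (i j : ι) : yy F i j * yy F i j = sd F i j := mt_inj <| by
  ext a b
  simp only [map_mul, mt_sd, mt_yy, mul_apply, submatrix_apply, id, diagonal_apply, ite_mul, zero_mul, Finset.sum_ite_eq,
    Finset.mem_univ, if_true, Equiv.swap_apply_self]
  by_cases h : i = j
  · simp [h, sg_sq]
  · simp [h, sg_swap, mul_comm]

theorem yy_mem (a : k ∉ s) (b : l ∉ s) : yy F k l ∈ HB (pr F s) := by
  have : ∀ m ∈ s, m ≠ k ∧ m ≠ l := fun m c => ⟨fun e => a (e ▸ c), fun e => b (e ▸ c)⟩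
  constructor <;> ext m n <;> simp only [pr, mt_yy, mul_diagonal, diagonal_mul, submatrix_apply, id, diagonal_apply]
  · by_cases c : m ∈ s
    · simp [c, Equiv.swap_apply_of_ne_of_ne, this m c, ite_apply, sg]
    · simp [c]
  · by_cases c : n ∈ s
    · by_cases d : m = n <;> simp [c, d, Equiv.swap_apply_eq_iff, Equiv.swap_apply_of_ne_of_ne, this n c, ite_apply, sg]
    · by_cases d : m = n <;> simp [c, d]

theorem wt2 [DecidableEq F] (h2 : (2 : F) ≠ 0) (a : k ≠ l) {w : ι → F} (b : mt g * mt (sd F k l) = diagonal w * mt g) :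
    (Finset.univ.filter (w · ≠ 1)).card = 2 := by
  have := congrArg (fun m => Matrix.rank (m - mt g)) b
  simp only [← mul_sub_one, ← sub_one_mul, mt_sd, ← diagonal_one, diagonal_sub] at this
  rw [rank_mul_eq_left_of_det_ne_zero (mt g) _ (by simp [mt_det]), rank_mul_eq_right_of_det_ne_zero (mt g) _ (by simp [mt_det]),
    rank_diagonal, rank_diagonal, Fintype.card_subtype, Fintype.card_subtype] at this
  simp only [sub_ne_zero] at this
  rw [← this, ← Finset.card_pair a]
  refine congrArg _ (Finset.ext fun m => ?_)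
  have : (-1 : F) ≠ 1 := fun e => h2 (by linear_combination -e)
  by_cases p : m = k <;> by_cases q : m = l <;> simp_all [sg]

theorem cent (h2 : (2 : F) ≠ 0) (h6 : 6 ≤ Fintype.card ι) (a : i ≠ j) (b : π g ∈ 𝐂₁ (pd F i j)) :
    Commute (mt g) (pr F {i, j}) := by
  classical
  obtain ⟨c, q⟩ := eqv (g := g * sd F i j) (h := sd F i j * g) (mem_cent1.1 b)
  rw [map_mul, map_mul] at q
  have := wt2 h2 a (q.trans (by rw [← smul_mul_assoc, mt_sd, ← diagonal_smul]))
  obtain rfl : c = 1 := by_contra fun n => by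
    have := this ▸ Finset.card_le_card (s := {i, j}ᶜ) fun m hm => by simp_all [sg]
    rw [Finset.card_compl, Finset.card_pair a] at this
    omega
  rw [one_smul, sd_pr a, mul_sub, sub_mul, mul_one, one_mul, sub_right_inj, mul_smul_comm, smul_mul_assoc] at q
  exact smul_right_injective _ h2 q

end CF.Ln.Hh
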