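/-
The centralizer of `diag(-1, -1, 1, …, 1)` in `PSL(ι, F)`.
-/
import Cfsg.Agent.Ln.H1
set_option autoImplicit false
set_option linter.unusedSectionVars false

namespace CF.Ln
open Subgroup Cfsg CF.BG Matrix
open scoped commutatorElement MatrixGroups

variable {ι : Type} [Fintype ι] [DecidableEq ι] {F : Type*} [Field F]

namespace Hh
variable {e : Matrix ι ι F} {g h : SpecialLinearGroup ι F} {i j k l : ι}

theorem sc2 {B A A' : Matrix (Fin 2) (Fin 2) F} (a : Commute B A) (b : Commute B A') (n : A * A' ≠ A' * A) :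
    ∃ c, B = scalar _ c := by
  simp only [Commute, SemiconjBy, ne_eq, ← Matrix.ext_iff, Fin.forall_fin_two, mul_apply, Fin.sum_univ_two] at a b n
  refine ⟨B 0 0, ?_⟩
  simp only [← Matrix.ext_iff, Fin.forall_fin_two, scalar_apply, diagonal_apply]
  grind

theorem nrm {C : Subgroup (ProjectiveSpecialLinearGroup ι F)} (a : ∀ g ∈ HB e, π g ∈ C)
    (b : ∀ g, π g ∈ C → Commute (mt g) e) : (HB e).map π ⊴ C := by
  refine ⟨map_le_iff_le_comap.2 a, le_norm_of_cj_le fun x hx y hy => ?_⟩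
  obtain ⟨_, ⟨h, m, rfl⟩, rfl⟩ := mem_cj_iff.1 hy
  obtain ⟨g, rfl⟩ := QuotientGroup.mk'_surjective _ x
  exact ⟨_, HB_cj (b g hx) m, by simp⟩

theorem cent' (a : i ≠ j) (b : Commute (mt g) (pr F {i, j})) : π g ∈ 𝐂₁ (pd F i j) :=
  mem_cent1.2 (congrArg π (mt_inj (g := g * sd F i j) (h := sd F i j * g) (by
    rw [map_mul, map_mul, sd_pr a]; exact (Commute.one_right _).sub_right (b.smul_right _))))

theorem q8 [Fintype F] (o : Odd (Fintype.card F)) : ∃ R : Subgroup SL(2, F), PiGrp {2} R ∧ ∃ a ∈ R, ∃ b ∈ R, a * b ≠ b * a := by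
  obtain ⟨p, hp⟩ := CharP.exists F
  have : NeZero p := ⟨CharP.char_ne_zero_of_finite F p⟩
  obtain ⟨x, y, e⟩ := CharP.sq_add_sq F p (-1)
  let a : SL(2, F) := ⟨!![0, -1; 1, 0], by simp⟩
  let b : SL(2, F) := ⟨!![x, y; y, -x], by simp; linear_combination -e⟩
  have k : ∀ c : SL(2, F), c * c = -1 → PiGrp {2} (zpowers c) := fun c h => piGrp_zpowers.2
    ((piNat_pow_self Nat.prime_two 2).dvd (orderOf_dvd_of_pow_eq_one (by
      rw [show c ^ 2 ^ 2 = c * c * (c * c) by simp [pow_succ, mul_assoc], h]; simp)))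
  have a2 : a * a = -1 := Subtype.ext (show a.1 * a.1 = -1 by ext i j; fin_cases i <;> fin_cases j <;> simp [a])
  have b2 : b * b = -1 := Subtype.ext (show b.1 * b.1 = -1 by
    ext i j; fin_cases i <;> fin_cases j <;> simp [b] <;> first | ring1 | linear_combination e)
  have ab : b * a = -(a * b) := Subtype.ext (show b.1 * a.1 = -(a.1 * b.1) by
    ext i j; fin_cases i <;> fin_cases j <;> simp [a, b])
  refine ⟨zpowers a ⊔ zpowers b, (k a a2).sup (k b b2) (.inr (zpowers_le.2 (cj_eq_self.1 ?_))),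
    a, mem_sup_left (mem_zpowers a), b, mem_sup_right (mem_zpowers b), fun h => ?_⟩
  · rw [cj_zpowers, ab, neg_mul, mul_inv_cancel_right, ← zpowers_inv, inv_eq_of_mul_eq_one_right (b := a) (by simp [a2])]
  have := congrArg (fun c => (c * (a * b)⁻¹) 0 0) (h.trans ab)
  simp only [neg_mul, mul_inv_cancel] at this
  exact (by simpa using FiniteField.even_card_iff_char_two.not.2 (Nat.odd_iff.1 o ▸ by decide) : ringChar F ≠ 2)
    (CharP.ringChar_of_prime_eq_zero Nat.prime_two (by simp at this; linear_combination this))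

theorem sgn (a : i ≠ j) : ∀ x ∈ Ec (pd F) (co i j), ∃ g w, π g = x ∧ mt g = diagonal w ∧ (∀ k, w k * w k = 1) ∧ w i = 1 ∧
    w j = 1 := fun x hx => by
  induction hx using closure_induction with
  | mem _ h =>
    obtain ⟨k, p, l, q, rfl⟩ := h
    rw [mem_co] at p q
    exact ⟨_, _, rfl, mt_sd k l, fun m => by rw [mul_mul_mul_comm, sg_sq, sg_sq, mul_one],
      by simp [sg, p.1.symm, q.1.symm], by simp [sg, p.2.symm, q.2.symm]⟩
  | one => exact ⟨1, 1, rfl, by simp, by simp, rfl, rfl⟩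
  | mul _ _ _ _ p q =>
    obtain ⟨g, w, rfl, a, b, c, d⟩ := p
    obtain ⟨g', w', rfl, a', b', c', d'⟩ := q
    exact ⟨g * g', w * w', map_mul .., by rw [map_mul, a, a', diagonal_mul_diagonal]; rfl,
      fun k => by rw [Pi.mul_apply, mul_mul_mul_comm, b, b', mul_one], by simp [c, c'], by simp [d, d']⟩
  | inv _ _ p =>
    obtain ⟨g, w, rfl, a, b, c⟩ := p
    exact ⟨g, w, by rw [← map_inv, inv_eq_of_mul_eq_one_right (b := g) (mt_inj (by simp [a, b]))], a, b, c⟩

end Hh

open Hh in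
theorem hf [Fintype F] (o : Odd (Fintype.card F)) (h6 : 6 ≤ Fintype.card ι) : ∃ y J M, HF (ι := ι) F (pd F) y J M := by
  classical
  have h2 : (2 : F) ≠ 0 := fun e => (by simpa using FiniteField.even_card_iff_char_two.not.2 (Nat.odd_iff.1 o ▸ by decide) :
    ringChar F ≠ 2) (CharP.ringChar_of_prime_eq_zero Nat.prime_two e)
  have cc : ∀ i j : ι, i ≠ j → (co i j).card = Fintype.card ι - 2 := fun i j a => by
    rw [co, Finset.card_compl, Finset.card_pair a]
  have ne : ∀ i j : ι, i ≠ j → pr F (co i j) ≠ 0 := fun i j a =>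
    let ⟨_, b⟩ := Finset.card_pos.1 (show 0 < (co i j).card by rw [cc i j a]; omega); pr_ne b
  have ne' : ∀ i j : ι, pr F {i, j} ≠ 0 := fun i j => pr_ne (Finset.mem_insert_self ..)
  have pc : ∀ i j : ι, pr F (co i j) = 1 - pr F {i, j} := fun i j => (pr_co _).symm
  have nJ : ∀ i j : ι, i ≠ j → (HB (pr F (co i j))).map π ⊴ 𝐂₁ (pd F i j) := fun i j a =>
    nrm (fun g b => cent' a (cm' (pc i j ▸ HB_cm b))) fun g b => pc i j ▸ (Commute.one_right _).sub_right (cent h2 h6 a b)
  have dJ : ∀ i j : ι, pd F i j ∈ (HB (pr F (co i j))).map π := fun i j => ⟨_, sd_mem (by simp [co]) (by simp [co]), rfl⟩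
  have dd : ∀ i j k : ι, pd F i j * pd F j k = pd F i k := fun i j k => congrArg π (mt_inj (g := sd F i j * sd F j k) (by
    rw [map_mul, mt_sd, mt_sd, mt_sd, diagonal_mul_diagonal]
    exact congrArg _ (funext fun m => by rw [mul_assoc, ← mul_assoc (sg F j m), sg_sq, one_mul])))
  have d1 : ∀ i : ι, pd F i i = 1 := fun i => congrArg π (mt_inj (h := 1) (by simp [mt_sd, sg_sq]))
  have ds : ∀ i j : ι, pd F i j * pd F i j = 1 := fun i j => by
    rw [← d1 i, ← dd i j i]; exact congrArg (pd F i j * π ·) (mt_inj (g := sd F i j) (h := sd F j i) (by simp only [mt_sd, mul_comm]))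
  have ex : ∀ i j : ι, i ≠ j → ∃ (P : Matrix ι (Fin (Fintype.card ι - 2)) F) (P' : Matrix (Fin (Fintype.card ι - 2)) ι F),
      P' * P = 1 ∧
      P * P' = 1 - pr F {i, j} := fun i j a =>
    let f := (Finset.equivFinOfCardEq (cc i j a)).symm
    ⟨_, _, pp (Subtype.val_injective.comp f.injective), (pp' (Subtype.val_injective.comp f.injective)
      fun k => ⟨fun b => ⟨f.symm ⟨k, b⟩, by simp⟩, fun ⟨m, b⟩ => b ▸ (f m).2⟩).trans (pc i j)⟩
  refine ⟨fun i j => π (yy F i j), fun i j => (HB (pr F (co i j))).map π, fun i j => (HB (pr F {i, j})).map π,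
    ⟨⟨d1, dd, ds, fun i j a b => ?_⟩, fun i j => ?_, fun i j k l => ?_⟩, fun i j _ => dJ i j,
    fun i j _ => ⟨_, yy_mem (by simp [co]) (by simp [co]), rfl⟩,
    fun i j k l a => ⟨_, sd_mem (by simp; grind) (by simp; grind), rfl⟩,
    fun i j k l a => ⟨_, yy_mem (by simp; grind) (by simp; grind), rfl⟩, nJ,
    fun i j a => nrm (fun g b => cent' a (HB_cm b)) fun g b => cent h2 h6 a b, fun i j _ => ?_, fun i j a => ?_,
    fun i j a Q s => ?_, fun i j a => ?_, fun i j k l a x hx m => ?_⟩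
  · obtain ⟨c, q⟩ := eqv (g := sd F i j) (h := 1) b
    have := (sd_mem (F := F) (s := co i j) (k := i) (l := j) (by simp [co]) (by simp [co])).2
    rw [one_of (g := 1) (c := c) (ne i j a) (by simpa [q] using this.symm), mt_sd] at q
    exact h2 (by have := congrFun₂ q i i; simp [sg, a] at this; linear_combination -this)
  · exact (piNat_pow_self Nat.prime_two 2).dvd (orderOf_dvd_of_pow_eq_one (by
      rw [← ds i j, pd, ← yy_sq]; simp [pow_succ, mul_assoc]))
  · rw [mul_inv_eq_iff_eq_mul]; exact congrArg π (yy_sd i j k l)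
  · rintro _ ⟨g, a, rfl⟩ _ ⟨h, b, rfl⟩
    exact congrArg π (HB_comm (pc i j ▸ a) b).symm
  · rintro _ ⟨⟨g, b, rfl⟩, h, c, d⟩
    obtain ⟨r, q⟩ := eqv d.symm
    have v : mt g = 1 - pr F {i, j} + r • pr F {i, j} := by
      rw [← pc, ← b.2, pc, ← c.2, ← smul_mul_assoc, ← q, c.2, mul_sub, mul_one, sub_add_cancel]
    have w := mt_det g
    rw [v, pr, ← diagonal_one, diagonal_sub, ← diagonal_smul, diagonal_add, det_diagonal,
      ← Finset.prod_subset (Finset.subset_univ {i, j}) (fun k _ n => by simp [-Finset.mem_insert, n]), Finset.prod_pair a] at w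
    rcases mul_self_eq_one_iff.1 (show r * r = 1 by simpa using w) with rfl | rfl
    · rw [show g = 1 from mt_inj (by simp [v]), map_one]; exact one_mem _
    · rw [show g = sd F i j from mt_inj (by rw [v, sd_pr a]; module)]; exact mem_zpowers _
  · have p := pp (F := F) (f := ![i, j]) (by simpa [Function.Injective, Fin.forall_fin_two] using ⟨a, a.symm⟩)
    have p' := pp' (F := F) (s := {i, j}) (f := ![i, j]) (by simpa [Function.Injective, Fin.forall_fin_two] using ⟨a, a.symm⟩)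
      (by simp [Fin.exists_fin_two, eq_comm])
    have r := range_emb p
    rw [p', ← pc] at r
    obtain ⟨R, u, A, hA, B, hB, n⟩ := q8 o
    obtain ⟨_, ⟨_, m, rfl⟩, l⟩ := s.syl_cj_le (K := R.map (π.comp (emb p))) (by
      rw [← r, ← MonoidHom.range_comp]; exact map_le_range ..) (u.map _)
    obtain ⟨C, rfl⟩ := r.ge m
    have dQ : pd F i j ∈ Q := s.mem_of_norm (dJ i j) (centralizer_le_normalizer _ fun x hx =>
      mem_cent1.1 ((nJ i j a).le (s.le hx))) (piElt_of_pow_eq_one Nat.prime_two ((sq _).trans (ds i j)))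
    have k1 : ∀ g, π g ∈ 𝐂 Q → Commute (mt g) (pr F {i, j}) := fun g b => cent h2 h6 a (mem_cent1.2 (b _ dQ).symm)
    have k2 : ∀ g, π g ∈ 𝐂 Q → ∃ c : F, mt g * pr F {i, j} = c • pr F {i, j} := fun g b => by
      have : ∀ A ∈ R, g * emb p (C * A * C⁻¹) = emb p (C * A * C⁻¹) * g := fun A h =>
        cm_of (ne i j a) (pc i j ▸ (Commute.one_right _).sub_right (k1 g b)) (r.le ⟨_, rfl⟩)
          (b _ (l (mem_cj_iff.2 ⟨_, ⟨A, h, rfl⟩, by simp⟩))).symm
      obtain ⟨c, e⟩ := sc2 (blk_cm p (this A hA)) (blk_cm p (this B hB)) fun e => n (by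
        simpa using mt_inj (g := C * A * C⁻¹ * (C * B * C⁻¹)) (h := C * B * C⁻¹ * (C * A * C⁻¹)) e)
      exact ⟨c, p' ▸ blk_sc p (p' ▸ k1 g b) e⟩
    refine ⟨commutator_le.2 fun x hx y hy => ?_, fun x hx y hy => ?_⟩ <;>
      obtain ⟨g, rfl⟩ := QuotientGroup.mk'_surjective _ x <;> obtain ⟨h, rfl⟩ := QuotientGroup.mk'_surjective _ y
    · obtain ⟨c, e⟩ := k2 g hx
      obtain ⟨c', e'⟩ := k2 h hy
      have t : ∀ {g h}, π g ∈ 𝐂 Q → π h ∈ 𝐂 Q → Commute (mt (g * h)) (pr F {i, j}) := fun a b => k1 _ (mul_mem a b)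
      have : pr F {i, j} * mt ⁅g, h⁆ = pr F {i, j} := by
        rw [commutatorElement_def, mul_assoc, ← _root_.mul_inv_rev, map_mul, ← mul_assoc, ← (t hx hy).eq,
          show mt (g * h) * pr F {i, j} = mt (h * g) * pr F {i, j} by
            simp only [map_mul, mul_assoc, e, e', mul_smul_comm, smul_smul, mul_comm], (t hy hx).eq, mul_assoc, mt_inv,
          mul_one]
      exact ⟨⁅g, h⁆, ⟨this, (k1 _ (mul_mem (mul_mem (mul_mem hx hy) (inv_mem hx)) (inv_mem hy))).eq.trans this⟩,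
        map_commutatorElement ..⟩
    obtain ⟨c, e⟩ := k2 g hx.1
    obtain ⟨P, P', q, q'⟩ := ex i j a
    have t := (Commute.one_right _).sub_right (k1 g hx.1)
    obtain ⟨c', e'⟩ := mem_range_scalar_of_commute_transvectionStruct (M := P' * mt g * P) fun t =>
      have := (range_emb q).le ⟨⟨t.toMatrix, by simp⟩, rfl⟩
      (blk_cm q (cm_of (ne' i j) (k1 g hx.1) (by simpa [q'] using this)
        (hx.2 _ ⟨_, by simpa [q'] using this, rfl⟩).symm)).symm
    have := blk_sc q (q' ▸ t) e'.symm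
    rw [q', mul_sub, mul_one, e, sub_eq_iff_eq_add] at this
    exact congrArg π (mt_inj (g := h * g) (h := g * h) (by
      rw [map_mul, map_mul, this]
      exact (((Commute.one_right _).sub_right (k1 h hy)).smul_right _).add_right ((k1 h hy).smul_right _)))
  · obtain ⟨P, P', q, q'⟩ := ex i j a
    exact ⟨_, emb_inj q (by simpa [q'] using ne' i j), by rw [MonoidHom.range_comp, range_emb, q', sub_sub_cancel]⟩
  obtain ⟨g, rfl⟩ := QuotientGroup.mk'_surjective _ x
  obtain ⟨h, w, p, q, s, wi, wj⟩ := sgn a.1 _ m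
  obtain ⟨c, e⟩ := eqv (g := g * sd F k l * g⁻¹) (h := h) p.symm
  have t := (HB_cj (cent h2 h6 a.1 hx) (sd_mem (k := k) (l := l) (by simp; grind) (by simp; grind))).2
  obtain rfl : c = 1 := by simpa [e, q, pr, wi] using congrFun₂ t i i
  rw [one_smul, q, map_mul, map_mul] at e
  obtain ⟨v, v', n, r⟩ := Finset.card_eq_two.1 (wt2 h2 a.2.2.2.2.2 (w := w) (g := g) (by
    rw [← e, mul_assoc, mt_inv', mul_one]))
  have r : ∀ m, w m ≠ 1 ↔ m = v ∨ m = v' := fun m => by simpa using Finset.ext_iff.1 r m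
  refine ⟨v, v', by grind, p.symm.trans (congrArg π (mt_inj ?_))⟩
  rw [q, mt_sd]
  refine congrArg _ (funext fun m => ?_)
  have := r m
  have := mul_self_eq_one_iff.1 (s m)
  unfold sg
  grind

end CF.Ln
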