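/-
Facts on the involutions of weight two in `PSL(ι, F)`.
-/
import Cfsg.Agent.Ln.C2
import Cfsg.Agent.Ln.H2
set_option autoImplicit false
set_option linter.unusedSectionVars false

namespace CF.Ln
open Subgroup Cfsg CF.BG CF.Sig CF.GW CF.Ab2 CF.L5 Matrix Module Hh
open scoped commutatorElement MatrixGroups

section
variable {ι : Type} [Fintype ι] [DecidableEq ι] {H : Type*} [Group H]

/-- the class of the `z i j` -/
def Dz (z : ι → ι → H) (g : H) : Prop := ∃ i j, i ≠ j ∧ IsConj (z i j) g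

/-- `a` is none of the four indices -/
abbrev O4 (i j k l a : ι) : Prop := a ≠ i ∧ a ≠ j ∧ a ≠ k ∧ a ≠ l

/-- the facts on the model -/
structure WH (d : ι → ι → H) : Prop where
  q1 : ∀ e w i j k l, Dz d e → IsConj (d i j * d k l) w → P2 (closure {e, w}) → ∃ f, Dz d f ∧ f * e = e * f ∧ f * w = w * f
  q2 : ∀ t i j k l, Dz d t → t * d i j = d i j * t → t * d k l = d k l * t →
    ∃ h, h * d i j = d i j * h ∧ h * d k l = d k l * h ∧ ∃ a b, a ≠ b ∧ h * t * h⁻¹ = d a b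
  q3 : ∀ i j k l m a b, D4 i j k l → O4 i j k l m → O4 i j k l a → O4 i j k l b → a ≠ b →
    ∀ h, h * (d i j * d k l) * h⁻¹ = d i j * d k l → h * d i m * h⁻¹ ≠ d a b
  q4 : ∀ i j k l a b, D4 i j k l → O4 i j k l a → O4 i j k l b → a ≠ b → ∀ t, Dz d t → t * (d i j * d k l) = d i j * d k l * t →
    ∀ h ∈ zpowers (d i j * t), ∀ g, g * d i j = d i j * g → g * d k l = d k l * g → g * (h * d i j * h⁻¹) * g⁻¹ ≠ d a b
  q5 : ∃ k : H, k ≠ 1 ∧ k * k = 1 ∧ ¬ Dz d k

end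

variable {F : Type*} [Field F] {ι : Type} [Fintype ι] [DecidableEq ι] {i j k l : ι} {g x y : SpecialLinearGroup ι F}

theorem w_sig (g : SpecialLinearGroup ι F) :
    ∃ σ : Equiv.Perm ι, ∀ A B : ι → F, diagonal A * mt g = mt g * diagonal B → ∀ k, A (σ k) = B k := by
  obtain ⟨σ, -, h⟩ := Finset.exists_ne_zero_of_sum_ne_zero ((det_apply' (mt g)).symm.trans_ne (by simp [mt_det]))
  refine ⟨σ, fun A B e k => mul_right_cancel₀ (Finset.prod_ne_zero_iff.1 (right_ne_zero_of_mul h) k (Finset.mem_univ _)) ?_⟩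
  simpa [mul_comm] using congrFun₂ e (σ k) k

/-- involutions of weight two -/
def W2 (x : SpecialLinearGroup ι F) : Prop := ∃ g i j, i ≠ j ∧ g * sd F i j * g⁻¹ = x

theorem W2.sq (h : W2 x) : x * x = 1 := by
  obtain ⟨g, i, j, -, rfl⟩ := h
  rw [conj_mul, c_sd_sq, mul_one, mul_inv_cancel]
theorem W2.cj (h : W2 x) (g : SpecialLinearGroup ι F) : W2 (g * x * g⁻¹) := by
  obtain ⟨k, i, j, n, rfl⟩ := h
  exact ⟨g * k, i, j, n, by group⟩
theorem w2_sd (h : i ≠ j) : W2 (sd F i j) := ⟨1, i, j, h, by simp⟩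
theorem W2.dz (h : W2 x) : Dz (pd F) (π x) := by
  obtain ⟨g, i, j, n, rfl⟩ := h
  exact ⟨i, j, n, isConj_iff.2 ⟨π g, by rw [map_mul, map_mul, map_inv]; rfl⟩⟩
theorem w_lift {t : ProjectiveSpecialLinearGroup ι F} (h : Dz (pd F) t) : ∃ x, W2 x ∧ π x = t := by
  obtain ⟨i, j, n, c⟩ := h
  obtain ⟨g, rfl⟩ := isConj_iff.1 c
  obtain ⟨g, rfl⟩ := QuotientGroup.mk'_surjective _ g
  exact ⟨_, ⟨g, i, j, n, rfl⟩, by rw [map_mul, map_mul, map_inv]; rfl⟩

theorem w_out (h6 : 6 ≤ Fintype.card ι) (i j k l m : ι) : ∃ a, O4 i j k l a ∧ a ≠ m := by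
  obtain ⟨a, h⟩ := CF.Classical.exists_not_mem_of_card_lt {i, j, k, l, m} (Finset.card_le_five.trans_lt h6)
  exact ⟨a, by simpa [and_assoc] using h⟩

theorem W2.eq (h6 : 6 ≤ Fintype.card ι) (a : W2 x) (b : W2 y) (e : π x = π y) : x = y := by
  obtain ⟨c, hc⟩ := eqv e
  obtain ⟨g, i, j, -, rfl⟩ := a
  obtain ⟨h, k, l, -, rfl⟩ := b
  obtain ⟨σ, s⟩ := w_sig (h⁻¹ * g)
  have := s (c • fun m => sg F k m * sg F l m) (fun m => sg F i m * sg F j m) (by
    rw [diagonal_smul, ← mt_sd, ← mt_sd, smul_mul_assoc, ← map_mul, ← map_mul,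
      show h⁻¹ * g * sd F i j = h⁻¹ * (g * sd F i j * g⁻¹) * g by group, map_mul _ _ g, map_mul _ h⁻¹ (_ * _), hc, mul_smul_comm,
      smul_mul_assoc, ← map_mul, ← map_mul]
    congr 2; group)
  obtain ⟨m, ⟨a1, a2, a3, a4⟩, -⟩ := w_out h6 i j (σ⁻¹ k) (σ⁻¹ l) i
  have := this m
  rw [Ne, Equiv.Perm.eq_inv_iff_eq] at a3 a4
  obtain rfl : c = 1 := by simpa [sg, a1, a2, a3, a4] using this
  exact mt_inj (by simpa using hc)

theorem W2.cm (h6 : 6 ≤ Fintype.card ι) (a : W2 x) (e : π g * π x = π x * π g) : g * x = x * g :=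
  mul_inv_eq_iff_eq_mul.1 ((a.cj g).eq h6 a (by rw [map_mul, map_mul, e, map_inv, mul_inv_cancel_right]))

theorem w_cm (h6 : 6 ≤ Fintype.card ι) (e : π g * pd F i j = pd F i j * π g) : g * sd F i j = sd F i j * g := by
  by_cases n : i = j
  · simp [n, c_sd_self]
  · exact (w2_sd n).cm h6 e

theorem W2.dg (a : W2 x) {δ : ι → F} (e : mt x * mt g = mt g * diagonal δ) : ∃ a b, a ≠ b ∧ g⁻¹ * x * g = sd F a b := by
  obtain ⟨h, i, j, n, rfl⟩ := a
  obtain ⟨σ, s⟩ := w_sig (h⁻¹ * g)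
  have := s (fun m => sg F i m * sg F j m) δ (by
    rw [← mt_sd, map_mul, mul_assoc, ← e, ← map_mul, ← map_mul, ← map_mul, ← map_mul]; congr 1; group)
  refine ⟨σ⁻¹ i, σ⁻¹ j, fun c => n (σ⁻¹.injective c), mt_inj ?_⟩
  rw [mul_assoc, map_mul, map_mul, e, ← mul_assoc, mt_inv', one_mul, mt_sd]
  congr 1; ext m
  simp [← this, sg, Equiv.eq_symm_apply]

theorem w_q2 (h2 : (2 : F) ≠ 0) (a : W2 x) (c1 : x * sd F i j = sd F i j * x) (c2 : x * sd F k l = sd F k l * x) :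
    ∃ h, h * sd F i j = sd F i j * h ∧ h * sd F k l = sd F k l * h ∧ ∃ a b, a ≠ b ∧ h * x * h⁻¹ = sd F a b := by
  classical
  have : Nonempty ι := ⟨i⟩
  have c3 : sd F i j * sd F k l = sd F k l * sd F i j := c_dcm rfl rfl
  obtain ⟨g, hg⟩ := c_diag h2 {mt x, mt (sd F i j), mt (sd F k l)} (by simp [← map_mul, a.sq, c_sd_sq])
    (by simp [← map_mul, c1, c2, c3])
  obtain ⟨σ, s⟩ := w_sig g
  obtain ⟨p, hp⟩ := c_perm (F := F) σ
  have cm : ∀ {u v : ι} {ε : ι → F}, mt (sd F u v) * mt g = mt g * diagonal ε → (g * p)⁻¹ * sd F u v = sd F u v * (g * p)⁻¹ :=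
    fun {u v ε} e => (Commute.inv_left (mt_inj (by
      rw [map_mul, map_mul, map_mul, map_mul, ← mul_assoc, e, mul_assoc, mul_assoc, ← funext (s _ _ e)]
      exact congrArg _ (hp _).symm))).eq
  obtain ⟨ε₁, -, e1⟩ := hg (mt (sd F i j)) (by simp)
  obtain ⟨ε₂, -, e2⟩ := hg (mt (sd F k l)) (by simp)
  obtain ⟨δ, -, e3⟩ := hg (mt x) (by simp)
  refine ⟨_, cm e1, cm e2, ?_⟩
  rw [inv_inv]
  refine a.dg (δ := δ ∘ σ.symm) ?_
  rw [map_mul, ← mul_assoc, show mt x * mt g = _ from e3, mul_assoc, mul_assoc]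
  congr 1
  have := hp (δ ∘ σ.symm)
  rwa [Function.comp_assoc, Equiv.symm_comp_self, Function.comp_id] at this

theorem w_vec (h6 : 6 ≤ Fintype.card ι) (a : W2 x) (b : W2 y) (φ : ι → F) :
    ∃ v : ι → F, v ≠ 0 ∧ mt x *ᵥ v = v ∧ mt y *ᵥ v = v ∧ φ ⬝ᵥ v = 0 := by
  obtain ⟨g, i, j, -, rfl⟩ := a
  obtain ⟨h, k, l, -, rfl⟩ := b
  obtain ⟨v, hv, n⟩ := (Submodule.ne_bot_iff _).1 (LinearMap.ker_ne_bot_of_finrank_lt
    (f := (of ![mt g⁻¹ i, mt g⁻¹ j, mt h⁻¹ k, mt h⁻¹ l, φ]).mulVecLin) (by simp; omega))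
  have key : ∀ (g : SpecialLinearGroup ι F) i j, mt g⁻¹ i ⬝ᵥ v = 0 → mt g⁻¹ j ⬝ᵥ v = 0 → mt (g * sd F i j * g⁻¹) *ᵥ v = v := fun g i j a b => by
    have : mt (sd F i j) *ᵥ mt g⁻¹ *ᵥ v = mt g⁻¹ *ᵥ v := funext fun m => by
      rw [mt_sd, mulVec_diagonal]
      by_cases c : m = i
      · simp [c, mulVec, a]
      by_cases d : m = j
      · simp [d, mulVec, b]
      · simp [sg, c, d]
    rw [map_mul, map_mul, ← mulVec_mulVec, ← mulVec_mulVec, this, mulVec_mulVec, mt_inv, one_mulVec]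
  exact ⟨v, n, key g i j (congrFun hv 0) (congrFun hv 1), key h k l (congrFun hv 2) (congrFun hv 3), congrFun hv 4⟩

theorem w_q1 (h2 : (2 : F) ≠ 0) (h6 : 6 ≤ Fintype.card ι) {w : SpecialLinearGroup ι F} (a : W2 x) (ww : w * w = 1) {n : ℕ}
    (hn : π ((x * (w * x * w⁻¹)) ^ 2 ^ n) = 1) : ∃ f, W2 f ∧ f * x = x * f ∧ f * w = w * f := by
  classical
  have : Nonempty ι := Fintype.card_pos_iff.1 (by omega)
  have b := a.cj w
  have wi : w⁻¹ = w := inv_eq_of_mul_eq_one_right ww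
  generalize hy : w * x * w⁻¹ = y at b hn
  set s := x * y with hs
  have fx : ∀ {v : ι → F}, mt x *ᵥ v = v → mt y *ᵥ v = v → ∀ m, mt s ^ m *ᵥ v = v := fun {v} c d m => by
    induction m with
    | zero => simp
    | succ m ih => rw [pow_succ, ← mulVec_mulVec, hs, map_mul, ← mulVec_mulVec, d, c, ← map_mul, ← hs, ih]
  have sN : s ^ 2 ^ n = 1 := by
    obtain ⟨c, hc⟩ := eqv (hn.trans (map_one _).symm)
    obtain ⟨v, v0, v1, v2, -⟩ := w_vec h6 a b 0
    have := fx v1 v2 (2 ^ n)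
    rw [← map_pow, hc, map_one, smul_mulVec, one_mulVec] at this
    exact mt_inj (by rw [hc, smul_left_injective F v0 (this.trans (one_smul F v).symm), one_smul])
  have n0 : ((2 ^ n : ℕ) : F) ≠ 0 := by simp [h2]
  have sm : ∀ (t S : Matrix ι ι F), t * S = S → (∑ m ∈ Finset.range (2 ^ n), t ^ m) * S = ((2 ^ n : ℕ) : F) • S := fun t S e => by
    have : ∀ m, t ^ m * S = S := fun m => by
      induction m with
      | zero => simp
      | succ m ih => rw [pow_succ, mul_assoc, e, ih]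
    rw [Finset.sum_mul, Finset.sum_congr rfl fun m _ => this m, Finset.sum_const, Finset.card_range, Nat.cast_smul_eq_nsmul]
  have sm' : ∀ (t S : Matrix ι ι F), S * t = S → S * (∑ m ∈ Finset.range (2 ^ n), t ^ m) = ((2 ^ n : ℕ) : F) • S := fun t S e => by
    have : ∀ m, S * t ^ m = S := fun m => by
      induction m with
      | zero => simp
      | succ m ih => rw [pow_succ', ← mul_assoc, e, ih]
    rw [Finset.mul_sum, Finset.sum_congr rfl fun m _ => this m, Finset.sum_const, Finset.card_range, Nat.cast_smul_eq_nsmul]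
  have gs : ∀ t : SpecialLinearGroup ι F, t ^ 2 ^ n = 1 → (∑ m ∈ Finset.range (2 ^ n), mt t ^ m) * mt t = ∑ m ∈ Finset.range (2 ^ n), mt t ^ m ∧
      mt t * (∑ m ∈ Finset.range (2 ^ n), mt t ^ m) = ∑ m ∈ Finset.range (2 ^ n), mt t ^ m := fun t e =>
    ⟨by rw [← sub_eq_zero, ← mul_sub_one, geom_sum_mul, ← map_pow, e, map_one, sub_self],
      by rw [← sub_eq_zero, ← sub_one_mul, mul_geom_sum, ← map_pow, e, map_one, sub_self]⟩
  obtain ⟨S, hS⟩ : ∃ S, S = ∑ m ∈ Finset.range (2 ^ n), mt s ^ m := ⟨_, rfl⟩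
  obtain ⟨s1, s2⟩ := gs s sN
  rw [← hS] at s1 s2
  have e : ∑ m ∈ Finset.range (2 ^ n), mt s⁻¹ ^ m = S := smul_right_injective _ n0 (by
    have c := (gs s⁻¹ (by rw [inv_pow, sN, inv_one])).1
    have := sm (mt s⁻¹) S (by rw [← s2, ← mul_assoc, mt_inv', one_mul, s2])
    rw [hS, sm' _ _ (by rw [← c, mul_assoc, mt_inv', mul_one, c]), ← hS] at this
    exact this)
  have cS : ∀ t : SpecialLinearGroup ι F, t * s = s⁻¹ * t → mt t * S = S * mt t := fun t c => by
    conv_rhs => rw [← e]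
    rw [hS, Finset.mul_sum, Finset.sum_mul]
    exact Finset.sum_congr rfl fun m _ => by
      rw [← map_pow, ← map_pow, ← map_mul, ← map_mul, (SemiconjBy.pow_right c m).eq]
  have si : s⁻¹ = y * x := by rw [hs, _root_.mul_inv_rev, inv_eq_of_mul_eq_one_right a.sq, inv_eq_of_mul_eq_one_right b.sq]
  have xS := cS x (by rw [si, hs, ← mul_assoc, a.sq, mul_assoc, a.sq, mul_one, one_mul])
  have wx : w * x = y * w := by rw [← hy, inv_mul_cancel_right]
  have wy : w * y = x * w := by rw [← hy, wi, ← mul_assoc, ← mul_assoc, ww, one_mul]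
  have wS := cS w (by rw [si, hs, ← mul_assoc, wx, mul_assoc, wy, mul_assoc])
  have xx : mt x * mt x = 1 := by rw [← map_mul, a.sq, map_one]
  have Sy : S * mt y = S * mt x := by
    rw [show y = x * s by rw [hs, ← mul_assoc, a.sq, one_mul], map_mul, ← mul_assoc, ← xS, mul_assoc, s1]
  obtain ⟨K, hK⟩ : ∃ K, K = ((2 ^ n : ℕ) : F)⁻¹ • (S * (1 + mt x)) := ⟨_, rfl⟩
  have k1 : mt x * K = K := by rw [hK, mul_smul_comm, ← mul_assoc, xS, mul_assoc, mul_add, xx, mul_one, add_comm]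
  have k2 : K * mt x = K := by rw [hK, smul_mul_assoc, mul_assoc, add_mul, xx, one_mul, add_comm]
  have k3 : mt w * K = K * mt w := by
    rw [hK, mul_smul_comm, smul_mul_assoc, ← mul_assoc, wS, mul_assoc, mul_add, mul_one, ← map_mul, wx, map_mul, mul_add,
      ← mul_assoc, Sy, mul_add, add_mul, mul_one]
  have k4 : K * K = (2 : F) • K := by
    have : S * K = ((2 ^ n : ℕ) : F) • K := by
      nth_rw 1 [hS]; exact sm _ _ (by rw [hK, mul_smul_comm, ← mul_assoc, s2])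
    nth_rw 1 [hK]
    rw [smul_mul_assoc, mul_assoc, add_mul, k1, one_mul, mul_add, this, ← smul_add, smul_smul, inv_mul_cancel₀ n0, one_smul, two_smul]
  obtain ⟨g, hg⟩ := c_diag h2 {K - 1, mt w} (by simp [← map_mul, ww, mul_sub, sub_mul, k4, two_smul]) (by simp [mul_sub, sub_mul, k3])
  obtain ⟨ε, -, e1⟩ := hg (K - 1) (by simp)
  obtain ⟨δ, -, e2⟩ := hg (mt w) (by simp)
  change _ * mt g = mt g * _ at e1 e2
  have dg : ∀ {A : Matrix ι ι F} {ε}, A * mt g = mt g * diagonal ε → A = mt g * diagonal ε * mt g⁻¹ := fun e => by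
    rw [← e, mul_assoc, mt_inv, mul_one]
  have pl : ∀ φ : ι → F, ∃ (m : ι) (v : ι → F), ε m = 1 ∧ mt g⁻¹ m ⬝ᵥ v ≠ 0 ∧ φ ⬝ᵥ v = 0 := fun φ => by
    obtain ⟨v, v0, v1, v2, v3⟩ := w_vec h6 a b φ
    have c : (K - 1) *ᵥ v = v := by
      rw [sub_mulVec, hK, smul_mulVec, ← mulVec_mulVec, add_mulVec, one_mulVec, v1, mulVec_add, hS, sum_mulVec,
        Finset.sum_congr rfl fun m _ => fx v1 v2 m]
      simp [← Nat.cast_smul_eq_nsmul F, smul_smul, h2]
    have d : diagonal ε *ᵥ mt g⁻¹ *ᵥ v = mt g⁻¹ *ᵥ v := by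
      conv_rhs => rw [← c]
      rw [mulVec_mulVec, mulVec_mulVec, dg e1, ← mul_assoc, ← mul_assoc, mt_inv', one_mul]
    obtain ⟨m, hm⟩ := Function.ne_iff.1 (show mt g⁻¹ *ᵥ v ≠ 0 from fun c => v0 (by
      rw [← one_mulVec v, ← mt_inv g, ← mulVec_mulVec, c, mulVec_zero]))
    exact ⟨m, v, mul_right_cancel₀ hm (by simpa [mulVec_diagonal] using congrFun d m), hm, v3⟩
  obtain ⟨m, -, m1, -⟩ := pl 0
  obtain ⟨m', v, m2, m3, m4⟩ := pl (mt g⁻¹ m)
  have ne : m ≠ m' := by rintro rfl; exact m3 m4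
  have ml : ∀ A B : Matrix ι ι F, mt g * A * mt g⁻¹ * (mt g * B * mt g⁻¹) = mt g * (A * B) * mt g⁻¹ := fun A B => by
    rw [mul_assoc, ← mul_assoc (mt g⁻¹), ← mul_assoc (mt g⁻¹), mt_inv', one_mul, ← mul_assoc, mul_assoc (mt g)]
  have f1 : 1 - mt (g * sd F m m' * g⁻¹) = mt g * diagonal (fun k => 1 - sg F m k * sg F m' k) * mt g⁻¹ := by
    rw [← diagonal_sub, diagonal_one, mul_sub, sub_mul, mul_one, mt_inv, map_mul, map_mul, mt_sd]
  have f2 : ∀ k, ε k * (1 - sg F m k * sg F m' k) = 1 - sg F m k * sg F m' k := fun k => by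
    by_cases c : k = m
    · rw [c, m1, one_mul]
    by_cases d : k = m'
    · rw [d, m2, one_mul]
    · simp [sg, c, d]
  refine ⟨_, ⟨g, m, m', ne, rfl⟩, mt_inj ?_, mt_inj ?_⟩
  · have a1 : (K - 1) * (1 - mt (g * sd F m m' * g⁻¹)) = 1 - mt (g * sd F m m' * g⁻¹) := by
      rw [f1, dg e1, ml, diagonal_mul_diagonal, funext f2]
    have a2 : (1 - mt (g * sd F m m' * g⁻¹)) * (K - 1) = 1 - mt (g * sd F m m' * g⁻¹) := by
      rw [f1, dg e1, ml, diagonal_mul_diagonal, funext fun k => (mul_comm _ _).trans (f2 k)]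
    rw [map_mul _ _ x, map_mul _ x]
    generalize mt (g * sd F m m' * g⁻¹) = f at a1 a2
    rw [sub_one_mul, sub_eq_iff_eq_add, ← two_smul F] at a1
    rw [mul_sub_one, sub_eq_iff_eq_add, ← two_smul F] at a2
    have b1 : mt x * (1 - f) = 1 - f := smul_right_injective _ h2 (by simp only; rw [← mul_smul_comm, ← a1, ← mul_assoc, k1])
    have b2 : (1 - f) * mt x = 1 - f := smul_right_injective _ h2 (by simp only; rw [← smul_mul_assoc, ← a2, mul_assoc, k2])
    simpa [mul_sub, sub_mul] using b2.trans b1.symm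
  · rw [map_mul _ _ w, map_mul _ w, dg e2, map_mul, map_mul, ml, ml, mt_sd, diagonal_mul_diagonal, diagonal_mul_diagonal]
    simp only [mul_comm]

theorem w_q5 (h2 : (2 : F) ≠ 0) (h6 : 6 ≤ Fintype.card ι) : ∃ k : ProjectiveSpecialLinearGroup ι F, k ≠ 1 ∧ k * k = 1 ∧ ¬ Dz (pd F) k := by
  have n1 : (1 : F) ≠ -1 := fun c => h2 (by linear_combination c)
  suffices h : ∃ u : SpecialLinearGroup ι F, π (u * u) = 1 ∧ ∀ x, (x = 1 ∨ W2 x) → ∀ c : F, mt u ≠ c • mt x by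
    obtain ⟨u, a, b⟩ := h
    refine ⟨π u, fun e => ?_, a, fun e => ?_⟩
    · exact (eqv (e.trans (map_one π).symm)).elim (b 1 (.inl rfl))
    · obtain ⟨x, c, d⟩ := w_lift e
      exact (eqv d.symm).elim (b x (.inr c))
  rcases h6.eq_or_lt with h | h
  · let e : ι ≃ Fin 2 × Fin 3 := Fintype.equivOfCardEq (by simp [← h])
    let M : Matrix (Fin 2 × Fin 3) (Fin 2 × Fin 3) F := blockDiagonal fun _ => !![0, -1; 1, 0]
    have mm : M.submatrix e e * M.submatrix e e = -1 := by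
      rw [submatrix_mul_equiv, ← blockDiagonal_mul, show (fun _ : Fin 3 => !![0, -1; 1, 0] * !![0, -1; 1, (0 : F)]) = -1 from
        funext fun _ => by ext i j; fin_cases i <;> fin_cases j <;> simp, blockDiagonal_neg, blockDiagonal_one]
      simp [submatrix_neg]
    refine ⟨⟨M.submatrix e e, by simp [M, det_blockDiagonal]⟩, (QuotientGroup.eq_one_iff _).2
      (Matrix.SpecialLinearGroup.mem_center_iff.2 ⟨-1, by rw [← h]; norm_num, by rw [map_neg, map_one]; exact mm.symm⟩), fun x a c hc => ?_⟩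
    have xx : mt x * mt x = 1 := by rw [← map_mul, a.elim (fun e => by simp [e]) W2.sq, map_one]
    have d := (mt_det _).symm.trans (congrArg det hc)
    rw [det_smul, mt_det, ← h, mul_one] at d
    change M.submatrix e e = _ at hc
    rw [hc, smul_mul_smul_comm, xx] at mm
    obtain ⟨o⟩ : Nonempty ι := Fintype.card_pos_iff.1 (by omega)
    have : c * c = -1 := by simpa using congrFun₂ mm o o
    exact n1 (d.trans (by rw [show c ^ 6 = (c * c) ^ 3 by ring, this]; norm_num))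
  obtain ⟨f⟩ := Function.Embedding.nonempty_of_card_le (α := Fin 7) (β := ι) (by simp; omega)
  have key : ∀ s : Finset (Fin 7), 3 ≤ s.card → ∀ (σ : Equiv.Perm ι) i j, ∃ a ∈ s, σ (f a) ≠ i ∧ σ (f a) ≠ j := fun s hs σ i j => by
    by_contra c
    have := Finset.card_le_card_of_injOn (s := s) (t := {i, j}) (σ ∘ f) (fun a m => by
      by_contra d; exact c ⟨a, m, by simpa [not_or] using d⟩) (σ.injective.comp f.injective).injOn
    exact absurd (this.trans Finset.card_le_two) (by omega)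
  refine ⟨sd F (f 0) (f 1) * sd F (f 2) (f 3), by rw [c_dsq (ε := fun k => _ * _) (diagonal_mul_diagonal ..) fun k => by
    unfold sg; split_ifs <;> simp, map_one], fun x a c hc => ?_⟩
  obtain ⟨g, i, j, rfl⟩ : ∃ g i j, g * sd F i j * g⁻¹ = x := a.elim (fun e => ⟨1, f 0, f 0, by simp [e, c_sd_self]⟩)
    fun ⟨g, i, j, _, e⟩ => ⟨g, i, j, e⟩
  obtain ⟨σ, s⟩ := w_sig g⁻¹
  have := s (c • fun m => sg F i m * sg F j m) (fun m => sg F (f 0) m * sg F (f 1) m * (sg F (f 2) m * sg F (f 3) m)) (by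
    rw [diagonal_smul, ← mt_sd, ← diagonal_mul_diagonal, ← mt_sd, ← mt_sd, ← map_mul mt (sd _ _ _), hc, smul_mul_assoc, mul_smul_comm,
      ← map_mul, ← map_mul]
    congr 2; group)
  obtain ⟨a, ha, a1, a2⟩ := key {0, 1, 2} (by decide) σ i j
  obtain ⟨b, hb, b1, b2⟩ := key {4, 5, 6} (by decide) σ i j
  have a3 := this (f a)
  have b3 := this (f b)
  simp only [sg, Pi.smul_apply, a1, a2, b1, b2, if_false, f.apply_eq_iff_eq, mul_one, smul_eq_mul] at a3 b3
  refine n1 (.trans ?_ (b3.symm.trans (a3.trans ?_)))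
  · simp only [Finset.mem_insert, Finset.mem_singleton] at hb
    rcases hb with rfl | rfl | rfl <;> simp
  · simp only [Finset.mem_insert, Finset.mem_singleton] at ha
    rcases ha with rfl | rfl | rfl <;> simp

theorem wh [Finite F] (h2 : (2 : F) ≠ 0) (h6 : 6 ≤ Fintype.card ι) : WH (ι := ι) (pd F) := by
  have n1 : (1 : F) ≠ -1 := fun c => h2 (by linear_combination c)
  have sj := QuotientGroup.mk'_surjective (center (SpecialLinearGroup ι F))
  have dd : ∀ i j k l : ι, mt (sd F i j * sd F k l) = diagonal fun m => sg F i m * sg F j m * (sg F k m * sg F l m) := fun i j k l => by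
    rw [map_mul, mt_sd, mt_sd, diagonal_mul_diagonal]
  have cj : ∀ {h x y : SpecialLinearGroup ι F}, h * x * h⁻¹ = y → mt y * mt h = mt h * mt x := fun e => by
    rw [← map_mul, ← map_mul, ← e, inv_mul_cancel_right]
  have out : ∀ {i j k l a b m : ι}, O4 i j k l a → O4 i j k l b → sg F a m * sg F b m = -1 →
      sg F i m * sg F j m * (sg F k m * sg F l m) = 1 := fun {i j k l a b m} ha hb e => by
    by_cases c : m = a
    · simp [sg, c, ha]
    by_cases d : m = b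
    · simp [sg, d, hb]
    · exact (n1 (by simpa [sg, c, d] using e)).elim
  refine ⟨fun e w i j k l a b c => ?_, fun t i j k l a b c => ?_, fun i j k l m a b d o oa ob n h e e' => ?_,
    fun i j k l a b d oa ob n t ht c h hh g g1 g2 e => ?_, w_q5 h2 h6⟩
  · obtain ⟨x, hx, rfl⟩ := w_lift a
    obtain ⟨g, rfl⟩ := isConj_iff.1 b
    obtain ⟨g, rfl⟩ := sj g
    have e : π g * (pd F i j * pd F k l) * (π g)⁻¹ = π (g * (sd F i j * sd F k l) * g⁻¹) := rfl
    rw [e] at c ⊢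
    have ww : g * (sd F i j * sd F k l) * g⁻¹ * (g * (sd F i j * sd F k l) * g⁻¹) = 1 := by
      rw [conj_mul, c_dsq (dd ..) fun k => by unfold sg; split_ifs <;> simp, mul_one, mul_inv_cancel]
    generalize g * (sd F i j * sd F k l) * g⁻¹ = w at *
    have m1 : π x ∈ closure {π x, π w} := subset_closure (by simp)
    have m2 : π w ∈ closure {π x, π w} := subset_closure (by simp)
    obtain ⟨n, hn⟩ := c.isPGroup ⟨_, mul_mem m1 (mul_mem (mul_mem m2 m1) (inv_mem m2))⟩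
    obtain ⟨f, f1, f2, f3⟩ := w_q1 h2 h6 hx ww (n := n) (congrArg Subtype.val hn)
    exact ⟨π f, f1.dz, by rw [← map_mul, f2, map_mul], by rw [← map_mul, f3, map_mul]⟩
  · obtain ⟨x, hx, rfl⟩ := w_lift a
    obtain ⟨h, h1, h3, a, b, n, e⟩ := w_q2 h2 hx (w_cm h6 b) (w_cm h6 c)
    exact ⟨π h, congrArg π h1, congrArg π h3, a, b, n, congrArg π e⟩
  · obtain ⟨h, rfl⟩ := sj h
    have e1 := ((w2_sd (F := F) o.1.symm).cj h).eq h6 (w2_sd n) e'
    obtain ⟨c, e2⟩ := eqv (g := h * (sd F i j * sd F k l) * h⁻¹) (h := sd F i j * sd F k l) e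
    obtain ⟨σ, s⟩ := w_sig h
    have s1 := s _ _ (cj e1)
    have s2 := s (c • fun m => sg F i m * sg F j m * (sg F k m * sg F l m)) (fun m => sg F i m * sg F j m * (sg F k m * sg F l m))
      (by rw [diagonal_smul, ← dd i j k l, ← e2]; exact cj rfl)
    have a1 := s2 i
    have a2 := s2 m
    simp only [Pi.smul_apply] at a1 a2
    rw [out oa ob ((s1 i).trans (by simp [sg, o.1.symm]))] at a1
    rw [out oa ob ((s1 m).trans (by simp [sg, o.1])), a1] at a2
    exact n1 (by simpa [sg, d, o] using a2.symm)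
  · obtain ⟨x, hx, rfl⟩ := w_lift ht
    obtain ⟨g, rfl⟩ := sj g
    obtain ⟨r, rfl⟩ := hh
    have c1 : Commute (sd F i j * sd F k l) x := hx.cm h6 c.symm
    have c2 : Commute (sd F i j * sd F k l) (g * (sd F i j * x) ^ r) :=
      .mul_right (Commute.mul_right (w_cm h6 g1) (w_cm h6 g2)).symm
        (.zpow_right (.mul_right (c_dcm (dd ..) rfl) c1) r)
    have e1 := ((w2_sd (F := F) d.1).cj (g * (sd F i j * x) ^ r)).eq h6 (w2_sd n) (.trans (by
      simp only [map_mul, map_inv, map_zpow, _root_.mul_inv_rev, mul_assoc]; rfl) e)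
    obtain ⟨σ, s⟩ := w_sig (g * (sd F i j * x) ^ r)
    have s1 := s _ _ (cj e1)
    have s2 := s _ _ (by rw [← dd i j k l, ← map_mul, c2.eq, map_mul, dd]) i
    rw [out oa ob ((s1 i).trans (by simp [sg, d.1]))] at s2
    exact n1 (by simpa [sg, d] using s2)

end CF.Ln
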